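import Groth.Agent.L16.Supp.ClosedNat
import Groth.Agent.L16.SchSupport
import Groth.Agent.L16.Rees.FormalFunctions

/-!
# Formal functions for modules with proper support
-/

set_option autoImplicit false
set_option linter.style.haveILetI false

universe u

open CategoryTheory CategoryTheory.Limits AlgebraicGeometry TopologicalSpace Opposite

noncomputable section

namespace Groth.L16.Supp

open Formal (smulMod modPow modPowπ smulFamily toHHmodPow HHlim HHmodPow HHmodPowTrans toHHlim modPowTrans)
open CohLinear (hmap hmap_comp hmap_id)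

variable {A : Type u} [CommRing A] (I : Ideal A) {Z X : Scheme.{u}} [Z.Over (Spec (CommRingCat.of A))]
  [X.Over (Spec (CommRingCat.of A))] (i : Z ⟶ X) [IsClosedImmersion i]
  (hi : i ≫ (X ↘ Spec (CommRingCat.of A)) = Z ↘ Spec (CommRingCat.of A))
  {N : Z.Modules} {M : X.Modules} (e : (Coh.push i).obj N ≅ M)

include hi in
omit [IsClosedImmersion i] in
theorem smulMod_push (N : Z.Modules) (a : A) :
    smulMod A ((Coh.push i).obj N) a = (Coh.push i).map (smulMod A N a) := by
  rw [smulMod, Rees.smulModΓ_push]
  refine congrArg (fun r => (Coh.push i).map (Formal.smulModΓ N r)) ?_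
  rw [← hi]
  rfl

include hi in
omit [IsClosedImmersion i] in
theorem push_smulMod (a : A) : (Coh.push i).map (smulMod A N a) ≫ e.hom = e.hom ≫ smulMod A M a := by
  rw [← smulMod_push i hi, Rees.smulMod_naturality]

include hi in
/-- Direct image along a closed immersion commutes with reduction. -/
theorem exists_modPowIso (m : ℕ) :
    ∃ θ : (Coh.push i).obj (modPow I m N) ≅ modPow I m M,
      (Coh.push i).map (modPowπ I m N) ≫ θ.hom = e.hom ≫ modPowπ I m M := by
  haveI : PreservesColimitsOfSize.{u, u} (Coh.push i) := Groth.L17.ClosedPush.preservesColimits_push i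
  haveI : PreservesColimitsOfSize.{0, 0} (Coh.push i) := preservesColimitsOfSize_shrink.{0, u, 0, u} _
  let f := smulFamily (I ^ m) N
  let hc := isColimitOfHasCokernelOfPreservesColimit (Coh.push i) f
  have h0 : (Coh.push i).map f ≫ e.hom ≫ modPowπ I m M = 0 := by
    let hs := isColimitOfPreserves (Coh.push i) (coproductIsCoproduct fun _ : ↥(I ^ m) => N)
    refine hs.hom_ext fun a => ?_
    obtain ⟨a⟩ := a
    show (Coh.push i).map (Sigma.ι (fun _ : ↥(I ^ m) => N) a) ≫ _ = _ ≫ 0
    rw [Limits.comp_zero, ← Category.assoc, ← Functor.map_comp,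
      show Sigma.ι (fun _ : ↥(I ^ m) => N) a ≫ f = smulMod A N (a : A) from Sigma.ι_desc _ _,
      reassoc_of% push_smulMod i hi e, Rees.smulMod_modPowπ I M a.2, Limits.comp_zero]
  have h1 : smulFamily (I ^ m) M ≫ e.inv ≫ (Coh.push i).map (modPowπ I m N) = 0 := by
    apply Sigma.hom_ext
    intro a
    rw [Limits.comp_zero, Formal.smulFamily, Sigma.ι_desc_assoc, ← Category.assoc,
      Rees.smulMod_naturality, smulMod_push i hi, Category.assoc, ← Functor.map_comp,
      Rees.smulMod_modPowπ I N a.2, Functor.map_zero, Limits.comp_zero]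
  let t : (Coh.push i).obj (modPow I m N) ⟶ modPow I m M := hc.desc (CokernelCofork.ofπ _ h0)
  have ht : (Coh.push i).map (modPowπ I m N) ≫ t = e.hom ≫ modPowπ I m M :=
    hc.fac (CokernelCofork.ofπ _ h0) WalkingParallelPair.one
  let s : modPow I m M ⟶ (Coh.push i).obj (modPow I m N) := cokernel.desc _ _ h1
  have hs : modPowπ I m M ≫ s = e.inv ≫ (Coh.push i).map (modPowπ I m N) := cokernel.π_desc _ _ _
  haveI : Epi (modPowπ I m M) := inferInstanceAs (Epi (cokernel.π _))
  haveI : Epi ((Coh.push i).map (modPowπ I m N)) := by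
    haveI : Epi (modPowπ I m N) := inferInstanceAs (Epi (cokernel.π _))
    infer_instance
  refine ⟨⟨t, s, ?_, ?_⟩, ht⟩
  · rw [← cancel_epi ((Coh.push i).map (modPowπ I m N)), reassoc_of% ht, hs, e.hom_inv_id_assoc,
      Category.comp_id]
  · rw [← cancel_epi (modPowπ I m M), reassoc_of% hs, ht, e.inv_hom_id_assoc, Category.comp_id]

variable [IsNoetherianRing A] [IsProper (Z ↘ Spec (CommRingCat.of A))]

include e hi in
/-- Formal functions transported along a closed immersion. -/
theorem transport (hN : Coh.IsCoh N) (p : ℕ) :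
    Nonempty (AdicCompletion I (Coh.HH X M p) ≃+ HHlim I M p) ∧
      (∀ [IsAdicComplete I A], Function.Bijective (toHHlim I M p)) := by
  obtain ⟨E, hE⟩ := exists_natural i p
  -- cohomology
  let L₀ : Coh.HH X M p ≃+ Coh.HH Z N p :=
    { toFun := fun x => E N (hmap e.inv p x)
      invFun := fun y => hmap e.hom p ((E N).symm y)
      left_inv := fun x => by
        show hmap e.hom p ((E N).symm (E N (hmap e.inv p x))) = x
        rw [AddEquiv.symm_apply_apply, ← hmap_comp, e.inv_hom_id, hmap_id]
      right_inv := fun y => by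
        show E N (hmap e.inv p (hmap e.hom p ((E N).symm y))) = y
        rw [← hmap_comp, e.hom_inv_id, hmap_id, AddEquiv.apply_symm_apply]
      map_add' := fun x y => by rw [map_add, map_add] }
  let L : Coh.HH X M p ≃ₗ[A] Coh.HH Z N p :=
    { L₀ with
      map_smul' := fun a x => by
        show E N (hmap e.inv p (a • x)) = a • E N (hmap e.inv p x)
        rw [← Rees.hmap_smulMod, ← hmap_comp, Rees.smulMod_naturality, smulMod_push i hi, hmap_comp, hE,
          Rees.hmap_smulMod] }
  choose θ hθ using fun n : ℕ => exists_modPowIso I i hi e (n + 1)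
  let T : ∀ n, HHmodPow I M p n ≃+ HHmodPow I N p n := fun n =>
    { toFun := fun x => E _ (hmap (θ n).inv p x)
      invFun := fun y => hmap (θ n).hom p ((E _).symm y)
      left_inv := fun x => by
        show hmap (θ n).hom p ((E _).symm (E _ (hmap (θ n).inv p x))) = x
        rw [AddEquiv.symm_apply_apply, ← hmap_comp, (θ n).inv_hom_id, hmap_id]
      right_inv := fun y => by
        show E _ (hmap (θ n).inv p (hmap (θ n).hom p ((E _).symm y))) = y
        rw [← hmap_comp, (θ n).hom_inv_id, hmap_id, AddEquiv.apply_symm_apply]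
      map_add' := fun x y => by rw [map_add, map_add] }
  have hπ : ∀ n x, T n (toHHmodPow I M p n x) = toHHmodPow I N p n (L x) := by
    intro n x
    show E _ (hmap (θ n).inv p (hmap (modPowπ I (n + 1) M) p x)) =
      hmap (modPowπ I (n + 1) N) p (E N (hmap e.inv p x))
    rw [← hE, ← hmap_comp, ← hmap_comp]
    refine congrArg (E _) (congrArg (fun φ => hmap φ p x) ?_)
    rw [← cancel_mono (θ n).hom, Category.assoc, (θ n).inv_hom_id, Category.comp_id, Category.assoc, hθ,
      e.inv_hom_id_assoc]
  have htr : ∀ n x, T n (HHmodPowTrans I M p n x) = HHmodPowTrans I N p n (T (n + 1) x) := by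
    intro n x
    show E _ (hmap (θ n).inv p (hmap (modPowTrans I (n + 1) M) p x)) =
      hmap (modPowTrans I (n + 1) N) p (E _ (hmap (θ (n + 1)).inv p x))
    rw [← hE, ← hmap_comp, ← hmap_comp]
    refine congrArg (E _) (congrArg (fun φ => hmap φ p x) ?_)
    haveI : Epi (modPowπ I (n + 1 + 1) M) := inferInstanceAs (Epi (cokernel.π _))
    rw [← cancel_epi (modPowπ I (n + 1 + 1) M), ← cancel_mono (θ n).hom]
    have hinv : modPowπ I (n + 1 + 1) M ≫ (θ (n + 1)).inv =
        e.inv ≫ (Coh.push i).map (modPowπ I (n + 1 + 1) N) := by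
      rw [Iso.comp_inv_eq, Category.assoc, hθ, e.inv_hom_id_assoc]
    simp only [Category.assoc, Iso.inv_hom_id, Category.comp_id]
    rw [Formal.modPowπ_trans, reassoc_of% hinv, ← Category.assoc ((Coh.push i).map _), ← Functor.map_comp,
      Formal.modPowπ_trans, hθ, e.inv_hom_id_assoc]
  let W : HHlim I M p ≃+ HHlim I N p :=
    { toFun := fun y => ⟨fun n => T n (y.1 n), fun n => by rw [← htr, y.2 n]⟩
      invFun := fun y => ⟨fun n => (T n).symm (y.1 n), fun n => by
        apply (T n).injective
        rw [htr, AddEquiv.apply_symm_apply, AddEquiv.apply_symm_apply, y.2 n]⟩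
      left_inv := fun y => Subtype.ext (funext fun n => (T n).symm_apply_apply _)
      right_inv := fun y => Subtype.ext (funext fun n => (T n).apply_symm_apply _)
      map_add' := fun y z => Subtype.ext (funext fun n => map_add (T n) _ _) }
  refine ⟨⟨((AdicCompletion.congr I L).toAddEquiv.trans (Rees.completionEquiv I hN p)).trans W.symm⟩, ?_⟩
  intro _
  have h : (W : HHlim I M p → HHlim I N p) ∘ toHHlim I M p = toHHlim I N p ∘ L :=
    funext fun x => Subtype.ext (funext fun n => hπ n x)
  refine (Function.Bijective.of_comp_iff' W.bijective _).1 ?_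
  rw [h]
  exact (Rees.toHHlim_bijective I hN p).comp L.bijective

omit [IsNoetherianRing A] [IsProper (Z ↘ Spec (CommRingCat.of A))] in
/-- Formal functions for a coherent module with proper support. -/
theorem formalFunctions [IsNoetherianRing A] [LocallyOfFiniteType (X ↘ Spec (CommRingCat.of A))]
    {M : X.Modules} (hM : Coh.IsCoh M)
    (hs : ClSub.IsProperOver (X ↘ Spec (CommRingCat.of A)) (CohB1.support M)) (p : ℕ) :
    Nonempty (AdicCompletion I (Coh.HH X M p) ≃+ HHlim I M p) ∧
      (∀ [IsAdicComplete I A], Function.Bijective (toHHlim I M p)) := by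
  obtain ⟨Z, i, hi', hp, N, hN, ⟨e⟩⟩ := SchSupport.exists_proper_subscheme (X ↘ Spec (CommRingCat.of A)) hM hs
  letI : Z.Over (Spec (CommRingCat.of A)) := ⟨i ≫ (X ↘ Spec (CommRingCat.of A))⟩
  haveI : IsProper (Z ↘ Spec (CommRingCat.of A)) := hp
  exact transport I i rfl e hN p

end Groth.L16.Supp
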