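import Groth.Agent.L27.Hom.ExtAdj
import Groth.Agent.L10.TopCoh
import Groth.Agent.L17.AffinePush
import Groth.Agent.L16.CohLinear
import Mathlib.CategoryTheory.Abelian.GrothendieckCategory.EnoughInjectives

/-!
# Cohomology along a closed immersion, naturally
-/

set_option autoImplicit false
set_option linter.style.haveILetI false

universe u

open CategoryTheory CategoryTheory.Limits CategoryTheory.Abelian AlgebraicGeometry TopologicalSpace Opposite

noncomputable section

namespace Groth.L16.Supp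

/-- The inverse image of a constant sheaf. -/
def pullConstIso {X Y : TopCat.{u}} (f : X ⟶ Y) :
    constantSheaf (Opens.grothendieckTopology Y) AddCommGrpCat.{u} ⋙ CohTop.pull f ≅
      constantSheaf (Opens.grothendieckTopology X) AddCommGrpCat.{u} :=
  Adjunction.leftAdjointUniq
    (((constantSheafAdj (Opens.grothendieckTopology Y) AddCommGrpCat.{u} (T := (⊤ : Opens Y))
      (Preorder.isTerminalTop _)).comp
      (TopCat.Sheaf.pullbackPushforwardAdjunction AddCommGrpCat.{u} f)).ofNatIsoRight (Iso.refl _))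
    (constantSheafAdj (Opens.grothendieckTopology X) AddCommGrpCat.{u} (T := (⊤ : Opens X))
      (Preorder.isTerminalTop _))

/-- Cohomology of direct images of acyclic sheaves, naturally. -/
theorem exists_natural_top {Z X : TopCat.{u}} (f : Z ⟶ X) (n : ℕ) :
    ∃ E : ∀ F : CohTop.Ab Z, CohTop.H ((CohTop.push f).obj F) n →+ CohTop.H F n,
      (∀ F : CohTop.Ab Z, (∀ q : ℕ, 0 < q → IsZero ((CohTop.Rpush f q).obj F)) → Function.Bijective (E F)) ∧
      ∀ {F G : CohTop.Ab Z} (φ : F ⟶ G) x,
        E G (Sheaf.H.map ((CohTop.push f).map φ) n x) = Sheaf.H.map φ n (E F x) := by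
  let adj : CohTop.pull f ⊣ CohTop.push f := TopCat.Sheaf.pullbackPushforwardAdjunction AddCommGrpCat.{u} f
  haveI := Groth.L10.TopCoh.pull_preservesFiniteLimits f
  haveI : (CohTop.pull f).Additive := adj.left_adjoint_additive
  haveI : PreservesFiniteColimits (CohTop.pull f) := by
    haveI : PreservesColimitsOfSize.{0, 0} (CohTop.pull f) := adj.leftAdjoint_preservesColimits
    exact PreservesColimitsOfSize.preservesFiniteColimits _
  haveI : PreservesFiniteLimits (CohTop.push f) := by
    haveI : PreservesLimitsOfSize.{0, 0} (CohTop.push f) := adj.rightAdjoint_preservesLimits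
    exact PreservesLimitsOfSize.preservesFiniteLimits _
  let A : CohTop.Ab X := (constantSheaf (Opens.grothendieckTopology X) AddCommGrpCat.{u}).obj
    (AddCommGrpCat.of (ULift.{u} ℤ))
  let B : CohTop.Ab Z := (constantSheaf (Opens.grothendieckTopology Z) AddCommGrpCat.{u}).obj
    (AddCommGrpCat.of (ULift.{u} ℤ))
  let pc : (CohTop.pull f).obj A ≅ B := (pullConstIso f).app (AddCommGrpCat.of (ULift.{u} ℤ))
  let P : ∀ F : CohTop.Ab Z, Ext.{u} A ((CohTop.push f).obj F) n →+ Ext.{u} B F n := fun F =>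
    AddMonoidHom.mk' (fun e => (Ext.mk₀ pc.inv).comp (Groth.L27.ExtAdj.phi.{u, u} adj A F n e) (zero_add n))
      fun a b => by
        simp only [Groth.L27.ExtAdj.phi, Ext.mapExactFunctor_add, Ext.add_comp, Ext.comp_add]
  refine ⟨P, fun F hF => ?_, fun {F G} φ x => ?_⟩
  · refine Function.Bijective.comp (g := fun e : Ext.{u} ((CohTop.pull f).obj A) F n =>
      (Ext.mk₀ pc.inv).comp e (zero_add n)) ?_ (Groth.L27.ExtAdj.bijective_phi adj (A := A) n F hF)
    exact Function.bijective_iff_has_inverse.2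
      ⟨fun e => (Ext.mk₀ pc.hom).comp e (zero_add n),
        fun e => by simp only [Ext.mk₀_comp_mk₀_assoc, Iso.hom_inv_id, Ext.mk₀_id_comp],
        fun e => by simp only [Ext.mk₀_comp_mk₀_assoc, Iso.inv_hom_id, Ext.mk₀_id_comp]⟩
  · show (Ext.mk₀ pc.inv).comp (Groth.L27.ExtAdj.phi.{u, u} adj A G n
      (Ext.comp (X := A) (show Ext.{u} A ((CohTop.push f).obj F) n from x)
        (Ext.mk₀ ((CohTop.push f).map φ)) (add_zero n))) (zero_add n) = _
    rw [Groth.L27.ExtAdj.phi_comp_map]
    exact (Ext.comp_assoc_of_third_deg_zero _ _ _ (zero_add n)).symm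

/-- Cohomology of a direct image along a closed immersion, naturally. -/
theorem exists_natural {Z X : Scheme.{u}} (i : Z ⟶ X) [IsClosedImmersion i] (n : ℕ) :
    ∃ E : ∀ N : Z.Modules, Coh.HH X ((Coh.push i).obj N) n ≃+ Coh.HH Z N n,
      ∀ {N N' : Z.Modules} (φ : N ⟶ N') x,
        E N' (CohLinear.hmap ((Coh.push i).map φ) n x) = CohLinear.hmap φ n (E N x) := by
  obtain ⟨E, hE, hnat⟩ := exists_natural_top (Z := Z.toTopCat) (X := X.toTopCat) i.base n
  refine ⟨fun N => AddEquiv.ofBijective (E (Coh.toAb N)) (hE _ fun q hq => ?_),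
    fun {N N'} φ x => hnat (CohLinear.tm φ) x⟩
  obtain ⟨q, rfl⟩ := Nat.exists_eq_succ_of_ne_zero hq.ne'
  exact Groth.L17.isZero_RpushAb_of_isClosedImmersion i N q

end Groth.L16.Supp
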